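import Groth.Agent.KRLib.Seq
import Mathlib.RingTheory.Regular.RegularSequence
import Mathlib.Algebra.MvPolynomial.Equiv

/-! Generic combinations of a Koszul exact family form a regular sequence after a polynomial extension. -/

set_option autoImplicit false
set_option backward.isDefEq.respectTransparency false
set_option backward.isDefEq.respectTransparency.types false

universe u

open KoszDetLib

noncomputable section

namespace KoszGenLib

variable {Q : Type u} [CommRing Q]

/-- The top vector of the model. -/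
def tp : ∀ n, Kz Q n
  | 0 => fun _ => 1
  | n + 1 => join (0, tp n)

theorem eq_zero_of_D_eq : ∀ {n : ℕ} (f : Fin n → Q) (w : Kz Q n) (a : Q), D f w = a • tp n → a = 0
  | 0, f, w, a, h => by
    have h' := congrFun h (bot 0)
    simpa [tp, D] using h'.symm
  | n + 1, f, w, a, h => by
    have h' := congrArg pb h
    rw [pb_D, map_smul, ← map_neg] at h'
    exact eq_zero_of_D_eq (Fin.tail f) (-(pb w)) a h'

theorem D_smul_tp : ∀ {n : ℕ} (f : Fin n → Q) (a : Q), (∀ i, a * f i = 0) → D f (a • tp n) = 0
  | 0, _, _, _ => rfl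
  | n + 1, f, a, h => by
    refine join_ext ?_ ?_
    · rw [pa_D, map_smul pa, map_smul pb, show pa (tp (Q := Q) (n + 1)) = 0 from pa_join _ _,
        show pb (tp (Q := Q) (n + 1)) = tp n from pb_join _ _, smul_zero, map_zero, zero_add, smul_smul, mul_comm, h 0,
        zero_smul, map_zero]
    · rw [pb_D, map_smul, show pb (tp (Q := Q) (n + 1)) = tp n from pb_join _ _,
        D_smul_tp (Fin.tail f) a fun i => h i.succ, neg_zero, map_zero]

/-- the ideal of a non-empty exact family has no annihilator -/
theorem eq_zero_of_kills {n : ℕ} {f : Fin (n + 1) → Q} (hf : IsExactK f) (a : Q) (h : ∀ i, a * f i = 0) : a = 0 := by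
  obtain ⟨w, hw⟩ := hf (a • tp (n + 1)) (D_smul_tp f a h) (by
    rw [map_smul, show eps (tp (Q := Q) (n + 1)) = 0 from rfl, smul_zero]
    exact Ideal.zero_mem _)
  exact eq_zero_of_D_eq f w a hw

/-- regular modulo the predecessors, element form -/
def WR (R : Type u) [CommRing R] (l : List R) : Prop :=
  ∀ (i : ℕ) (h : i < l.length) (x : R), l[i] * x ∈ Ideal.ofList (l.take i) → x ∈ Ideal.ofList (l.take i)

theorem ofList_map {R S : Type u} [CommRing R] [CommRing S] (σ : R →+* S) (l : List R) :
    (Ideal.ofList l).map σ = Ideal.ofList (l.map σ) := Ideal.map_ofList σ l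

theorem ofList_cons' {R : Type u} [CommRing R] (g : R) (l : List R) :
    Ideal.ofList (g :: l) = Ideal.span {g} ⊔ Ideal.ofList l := Ideal.ofList_cons g l

theorem WR.cons {R S : Type u} [CommRing R] [CommRing S] (σ : R →+* S) (hσ : Function.Surjective σ) (g : R)
    (hker : RingHom.ker σ = Ideal.span {g}) (hg : ∀ x, g * x = 0 → x = 0) (l : List R) (hl : WR S (l.map σ)) :
    WR R (g :: l) := by
  intro i h x hx
  cases i with
  | zero =>
    simp only [List.take_zero, Ideal.ofList_nil, Ideal.mem_bot, List.getElem_cons_zero] at hx ⊢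
    exact hg x hx
  | succ j =>
    have hj : j < l.length := by simpa using h
    have e : Ideal.ofList ((g :: l).take (j + 1)) = (Ideal.ofList ((l.map σ).take j)).comap σ := by
      rw [List.take_succ_cons, ofList_cons', ← List.map_take, ← ofList_map, Ideal.comap_map_of_surjective' σ hσ, hker,
        sup_comm]
    rw [e, Ideal.mem_comap, map_mul] at hx
    rw [e, Ideal.mem_comap]
    exact hl j (by simpa using hj) _ (by simpa using hx)

theorem WR.map_equiv {R S : Type u} [CommRing R] [CommRing S] (e : R ≃+* S) {l : List R} (h : WR R l) :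
    WR S (l.map e) := by
  intro i hi x hx
  have hi' : i < l.length := by simpa using hi
  rw [← List.map_take] at hx ⊢
  rw [show List.map (⇑e) (l.take i) = List.map (⇑e.toRingHom) (l.take i) from rfl, ← ofList_map e.toRingHom] at hx ⊢
  obtain ⟨y, rfl⟩ := e.surjective x
  rw [show (l.map e)[i] = e (l[i]) from List.getElem_map _] at hx
  have key : ∀ z, e z ∈ (Ideal.ofList (l.take i)).map e.toRingHom ↔ z ∈ Ideal.ofList (l.take i) := fun z => by
    refine ⟨fun hz => ?_, fun hz => Ideal.mem_map_of_mem e.toRingHom hz⟩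
    obtain ⟨w, hw, hwz⟩ := (Ideal.mem_map_iff_of_surjective e.toRingHom e.surjective).1 hz
    exact e.injective (hwz : e w = e z) ▸ hw
  rw [← map_mul, key] at hx
  exact (key y).2 (h i hi' y hx)

theorem WR.isWeaklyRegular {R : Type u} [CommRing R] {l : List R} (h : WR R l) :
    RingTheory.Sequence.IsWeaklyRegular R l := by
  refine ⟨fun i hi => isSMulRegular_iff_right_eq_zero_of_smul.2 fun m hm => ?_⟩
  obtain ⟨x, rfl⟩ := Submodule.Quotient.mk_surjective _ m
  rw [← Submodule.Quotient.mk_smul, Submodule.Quotient.mk_eq_zero, smul_eq_mul, smul_eq_mul, Ideal.mul_top] at hm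
  rw [Submodule.Quotient.mk_eq_zero, smul_eq_mul, Ideal.mul_top]
  exact h i hi x hm

open MvPolynomial in
/-- lifting one step -/
theorem step {T S : Type u} [CommRing T] [CommRing S] (π : T →+* S) (hπ : Function.Surjective π) (g : T)
    (hker : RingHom.ker π = Ideal.span {g}) (hg : ∀ x, g * x = 0 → x = 0) (I : Ideal T) (I' : Ideal T)
    (hI : I' ⊔ Ideal.span {g} = I) {σ : Type} (l : List (MvPolynomial σ S)) (hl : WR _ l)
    (hspan : Ideal.ofList l = (I'.map π).map (C : S →+* MvPolynomial σ S)) :
    ∃ l₁ : List (MvPolynomial σ T), WR _ l₁ ∧ Ideal.ofList l₁ = I.map (C : T →+* MvPolynomial σ T) := by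
  let q : MvPolynomial σ T →+* MvPolynomial σ S := MvPolynomial.map π
  have hq : Function.Surjective q := MvPolynomial.map_surjective _ hπ
  obtain ⟨l', rfl⟩ : ∃ l' : List (MvPolynomial σ T), l'.map q = l :=
    ⟨l.map (Function.surjInv hq), by simp [Function.surjInv_eq hq, Function.comp_def]⟩
  have hkerq : RingHom.ker q = Ideal.span {C g} := by
    rw [MvPolynomial.ker_map, hker, Ideal.map_span, Set.image_singleton]
  have hgC : ∀ p : MvPolynomial σ T, C g * p = 0 → p = 0 := fun p hp => MvPolynomial.ext _ _ fun d => by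
    have h := congrArg (coeff d) hp
    rw [coeff_C_mul, coeff_zero] at h
    rw [hg _ h, coeff_zero]
  refine ⟨C g :: l', WR.cons q hq (C g) hkerq hgC l' hl, ?_⟩
  rw [ofList_cons', ← hkerq, sup_comm, ← Ideal.comap_map_of_surjective' q hq, ofList_map, hspan, Ideal.map_map,
    show (C : S →+* MvPolynomial σ S).comp π = q.comp C from RingHom.ext fun a => (MvPolynomial.map_C _ a).symm,
    ← Ideal.map_map, Ideal.comap_map_of_surjective' q hq, hkerq, ← hI, Ideal.map_sup, Ideal.map_span, Set.image_singleton]

open MvPolynomial in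
/-- transport along the equivalence -/
theorem step_equiv {Q : Type u} [CommRing Q] {T : Type u} [CommRing T] [Algebra Q T] {P : Type u} [CommRing P]
    {σ : Type} (e : MvPolynomial σ T ≃+* P) (φ : Q →+* P)
    (hφ : ∀ a, e (C (algebraMap Q T a)) = φ a) (I : Ideal Q) (l : List (MvPolynomial σ T)) (hl : WR _ l)
    (hspan : Ideal.ofList l = (I.map (algebraMap Q T)).map (C : T →+* MvPolynomial σ T)) :
    ∃ l' : List P, WR _ l' ∧ Ideal.ofList l' = I.map φ := by
  refine ⟨l.map e, hl.map_equiv e, ?_⟩
  show Ideal.ofList (l.map e.toRingHom) = _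
  rw [← ofList_map e.toRingHom, hspan, Ideal.map_map, Ideal.map_map]
  exact congrArg (fun ψ => I.map ψ) (RingHom.ext hφ)

open MvPolynomial in
set_option maxHeartbeats 1000000 in
/-- Main algebraic statement. -/
theorem exists_regular : ∀ (n : ℕ) (Q : Type u) [CommRing Q] (f : Fin n → Q), IsExactK f →
    ∃ (σ : Type) (_ : Finite σ) (l : List (MvPolynomial σ Q)), WR _ l ∧
      Ideal.ofList l = (Ideal.span (Set.range f)).map (C : Q →+* MvPolynomial σ Q)
  | 0, Q, _, f, _ => ⟨Empty, inferInstance, [], fun i h => absurd h (by simp), by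
      rw [Ideal.ofList_nil, Set.range_eq_empty, Ideal.span_empty, Ideal.map_bot]⟩
  | n + 1, Q, _, f, hf => by
    classical
    let T := MvPolynomial PUnit.{1} Q
    let t : T := X PUnit.unit
    let g : T := ∑ i : Fin (n + 1), C (f i) * t ^ (i : ℕ)
    have hg : ∀ p : T, g * p = 0 → p = 0 := by
      intro p hp
      let E := MvPolynomial.pUnitAlgEquiv.{u, 0} Q
      have hEg : E g = ∑ i : Fin (n + 1), Polynomial.C (f i) * Polynomial.X ^ (i : ℕ) := by
        simp [g, t, E, ← MvPolynomial.coe_eval₂Hom]
      have hnzd : E g ∈ nonZeroDivisors (Polynomial Q) := by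
        refine Polynomial.mem_nonZeroDivisors_iff.2 fun a ha => eq_zero_of_kills hf a fun i => ?_
        have h := congrArg (fun P => Polynomial.coeff P (i : ℕ)) ha
        simpa [hEg, Polynomial.coeff_C_mul_X_pow, Fin.val_inj, Finset.smul_sum] using h
      apply E.injective
      rw [map_zero]
      have h := congrArg E hp
      rw [map_mul, map_zero] at h
      exact (mul_right_mem_nonZeroDivisors_eq_zero_iff hnzd).1 ((mul_comm _ _).trans h)
    let fT : Fin (n + 1) → T := fun i => C (f i)
    have hfT : IsExactK fT := KRLib.isExactK_of_flat (R := T) hf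
    let tl : Fin n → T := Fin.tail fT
    let s1 : Fin 1 → T := fun _ => g
    have hspan : Ideal.span (Set.range (KRLib.app tl s1)) = Ideal.span (Set.range fT) := by
      rw [KRLib.range_app]
      refine le_antisymm (Ideal.span_le.2 ?_) (Ideal.span_le.2 ?_)
      · rintro x (⟨i, rfl⟩ | ⟨i, rfl⟩)
        · exact Ideal.subset_span ⟨i.succ, rfl⟩
        · exact Ideal.sum_mem _ fun j _ => Ideal.mul_mem_right _ _ (Ideal.subset_span ⟨j, rfl⟩)
      · rintro x ⟨i, rfl⟩
        cases i using Fin.cases with
        | zero =>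
          have h0 : fT 0 = g - ∑ j : Fin n, tl j * t ^ ((j.succ : Fin (n + 1)) : ℕ) := by
            simp [g, fT, tl, Fin.tail, Fin.sum_univ_succ]
          rw [h0]
          exact sub_mem (Ideal.subset_span (Or.inr ⟨0, rfl⟩))
            (Ideal.sum_mem _ fun j _ => Ideal.mul_mem_right _ _ (Ideal.subset_span (Or.inl ⟨j, rfl⟩)))
        | succ j => exact Ideal.subset_span (Or.inl ⟨j, rfl⟩)
    have hcat : IsExactK (KRLib.app tl s1) := by
      refine KRLib.isExactK_of_length_eq (KRLib.isExactK_cast hfT (by omega : n + 1 = 1 + n) (g := fun i => fT (i.cast (by omega))) fun i => by simp) ?_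
      rw [hspan]
      congr 1
      ext x
      exact ⟨fun ⟨i, hi⟩ => ⟨_, hi⟩, fun ⟨i, hi⟩ => ⟨i.cast (by omega), by simpa using hi⟩⟩
    let J : Ideal T := Ideal.span {g}
    have htail : IsExactK (Ideal.Quotient.mk J ∘ tl) :=
      KRLib.isExactK_of_app (Ideal.Quotient.mk J) s1 (KRLib.isExactK_single g hg)
        (by rw [Ideal.mk_ker, Set.range_const]) Ideal.Quotient.mk_surjective tl hcat
    obtain ⟨σ, _, l, hl, hlspan⟩ := exists_regular n (T ⧸ J) (Ideal.Quotient.mk J ∘ tl) htail
    obtain ⟨l₁, hl₁, hspan₁⟩ := step (Ideal.Quotient.mk J) Ideal.Quotient.mk_surjective g Ideal.mk_ker hg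
      (Ideal.span (Set.range fT)) (Ideal.span (Set.range tl))
      (by rw [← hspan, KRLib.range_app, Ideal.span_union, show Set.range s1 = {g} from Set.range_const]) l hl
      (by rw [hlspan, Set.range_comp, ← Ideal.map_span])
    obtain ⟨l₂, hl₂, hspan₂⟩ := step_equiv (Q := Q) (T := T) (MvPolynomial.sumAlgEquiv Q σ PUnit.{1}).symm.toRingEquiv
      (C : Q →+* MvPolynomial (σ ⊕ PUnit.{1}) Q) (fun a => (MvPolynomial.sumAlgEquiv Q σ PUnit.{1}).symm.commutes a)
      (Ideal.span (Set.range f)) l₁ hl₁
      (by rw [hspan₁, show fT = (algebraMap Q T) ∘ f from rfl, Set.range_comp, ← Ideal.map_span])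
    exact ⟨_, inferInstance, l₂, hl₂, hspan₂⟩

end KoszGenLib
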